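import Cfsg.Agent.Mrg.Omega.HTwo.AlphaP


/-!
# II.0h1, `q = 2`, over a 2-group `S` : the element `c` of the JUNCTION (#17185 (A), (B))

* `Sig V R o c` : the stabiliser `Σ` of `V Z(Q o)` in `N(R o)` fixes `v c R o` for `v ∈ V ∖ R o`;
* `exists_sig` : if `⟨V^{M₀}⟩ ≤ Q o`, then `Sig V R o c` for some `c ∈ Z₀ = C_{Ω₁Z(S)}(P)`;
* `Sig.comm` : `N(V) ∩ N(R o)` centralises `c`;
* `Sig.norm` : `g ∈ Σ ∩ C(c)` implies `g ∈ N(V)`.
-/

set_option autoImplicit false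
set_option linter.unusedSectionVars false

namespace Cfsg.Agent.Omega.HT

open Subgroup Cfsg Cfsg.Agent.MinSimple.VModule Cfsg.Agent.Omega.BTwo
open Cfsg.Agent.Omega.HOneTwo Cfsg.Agent.Omega.HTwo Cfsg.Agent.Omega.HTwo.ThmA Cfsg.Agent.Omega.HTwo.Par
open Cfsg.Agent.Omega.HTwo.Hat Cfsg.Agent.Omega.HTwo.TComp Cfsg.Agent.Omega.MinPar
open Cfsg.Agent.ZN (zc o2 le_normalizer_o2)
open Cfsg.Agent.Omega.TV (GSys)
open Cfsg.Agent.Omega.HT.Two Cfsg.Agent.Omega.HT.JunAB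

universe u

variable {G : Type u} [Group G] {ι : Type*}

/-- `Σ` fixes `v c R o` for `v ∈ V ∖ R o` -/
def Sig (V : Subgroup G) (R : ι → Subgroup G) (o : ι) (c : G) : Prop :=
  ∀ g ∈ normalizer (R o : Set G), (∀ v ∈ V, g * v * g⁻¹ ∈ V ⊔ ZQ R o) → ∀ v ∈ V, v ∉ R o →
    (v * c)⁻¹ * g * (v * c) * g⁻¹ ∈ R o

variable [Finite G] {S P V : Subgroup G} {R : ι → Subgroup G} {o : ι} (b : HTT S P V R o)
include b

/-- **(A), (B)** -/
theorem exists_sig {r : G} (hr : ∀ x, x ∈ R o ↔ x = 1 ∨ x = r) (hLE : ∀ i, ThmA.LE V R i)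
    (hch : GSys (MZ S V R) (cl (R o) (MZ S V R)) r) {z₀ : G}
    (hz₀ : z₀ ∈ zc S ⊓ centralizer (P : Set G)) (hz₀1 : z₀ ≠ 1)
    (hα : UM V (MZ S V R) ≤ QQ (R o)) : ∃ c ∈ zc S ⊓ centralizer (P : Set G), Sig V R o c := by
  have hNr := fun g => mem_N_iff b hr (g := g)
  obtain ⟨j, k, hj, hk, hjk⟩ := b.one_lt
  obtain ⟨r₂, h21, h22, h2⟩ := b.exists_gen j
  have h2j : r₂ ∈ R j := (h2 _).2 (Or.inr rfl)
  have h2V := b.R_le j h2j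
  obtain ⟨c, hc, H⟩ := exists_avg b hr hj h2j h21 hLE
  have hVn : ∀ a ∈ normalizer (V : Set G), ∀ v ∈ V, a * v * a⁻¹ ∈ V ⊔ ZQ R o := fun a ha v hv =>
    mem_sup_left (conj_mem_of_normalizer ha hv)
  obtain ⟨a, ha, hac⟩ := mem_of_alpha b hr hLE hch hz₀ hz₀1 hα hc fun g hgV hgR =>
    fix_c b hr hj h2j h21 hc hgV hgR (H g hgR (hVn g hgV))
  have hZ := mem_zc_of b hr hLE hac (by
    intro s hs
    have h3 := fix_c b hr hj h2j h21 hc (b.S_V hs) (b.S_R hs) (H s (b.S_R hs) (hVn s (b.S_V hs)))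
    have e : s * (a * c) * s⁻¹ * (a * c)⁻¹ = (s * a * s⁻¹) * (s * c * s⁻¹ * c⁻¹) * a⁻¹ := by group
    rw [e]
    exact mul_mem (mul_mem (conj_mem_of_normalizer (b.S_R hs) ha) h3) (inv_mem ha))
  refine ⟨a * c, hZ, fun g hg hgV v hv hvo => ?_⟩
  have hcN : c ∈ normalizer (R o : Set G) := b.Q_le o (ZQ_le o hc)
  have hρ : r₂⁻¹ * v ∈ R o := (mem_V b hr hj h2j h21 hv).resolve_left hvo
  obtain ⟨ρ, hρe⟩ : ∃ ρ, ρ = r₂⁻¹ * v * a := ⟨_, rfl⟩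
  have hρR : ρ ∈ R o := by rw [hρe]; exact mul_mem hρ ha
  have hcρ : c * ρ = ρ * c := by
    rcases (hr ρ).1 hρR with h | h
    · rw [h, one_mul, mul_one]
    · rw [h]; exact (hNr c).1 hcN
  have e1 : v * (a * c) = r₂ * c * ρ := by
    rw [mul_assoc r₂, hcρ, hρe]; group
  rw [e1]
  have h3 := H g hg hgV
  have e2 : (r₂ * c * ρ)⁻¹ * g * (r₂ * c * ρ) * g⁻¹ = ρ⁻¹ * ((r₂ * c)⁻¹ * g * (r₂ * c) * g⁻¹) * (g * ρ * g⁻¹) := by
    group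
  rw [e2]
  exact mul_mem (mul_mem (inv_mem hρR) h3) (conj_mem_of_normalizer hg hρR)

/-- `Σ ∩ C(c) ≤ N(V)` -/
theorem Sig.norm {r : G} (hr : ∀ x, x ∈ R o ↔ x = 1 ∨ x = r) {c : G}
    (hc : c ∈ zc S ⊓ centralizer (P : Set G)) (h : Sig V R o c) {g : G} (hg : g ∈ normalizer (R o : Set G))
    (hgc : g * c = c * g) (hgV : ∀ v ∈ V, g * v * g⁻¹ ∈ V ⊔ ZQ R o) : g ∈ normalizer (V : Set G) := by
  have hNr := fun g => mem_N_iff b hr (g := g)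
  refine mem_normalizer_of_conj fun v hv => ?_
  by_cases hvo : v ∈ R o
  · exact b.R_le o (conj_mem_of_normalizer hg hvo)
  have h1 := h g hg hgV v hv hvo
  have hvc : v * c = c * v := by
    have h2 : c ∈ centralizer (V : Set G) := (b.toBTS.CenX_le_cen) (b.cz_le hc)
    exact mem_centralizer_iff.1 h2 v hv
  have h2 : v⁻¹ * g * v * g⁻¹ ∈ R o := by
    have hcN : c ∈ normalizer (R o : Set G) := b.Q_le o (ZQ_le o (zc_le_ZQ b hr hc.1))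
    have h3 := conj_mem_of_normalizer hcN h1
    have e2 : c * g⁻¹ = g⁻¹ * c := by
      rw [eq_inv_mul_iff_mul_eq, ← mul_assoc, hgc, mul_inv_cancel_right]
    have e : c * ((v * c)⁻¹ * g * (v * c) * g⁻¹) * c⁻¹ = v⁻¹ * g * v * g⁻¹ := by
      calc c * ((v * c)⁻¹ * g * (v * c) * g⁻¹) * c⁻¹ = v⁻¹ * g * v * (c * g⁻¹) * c⁻¹ := by group
        _ = v⁻¹ * g * v * g⁻¹ := by rw [e2]; group
    rwa [e] at h3
  have e : g * v * g⁻¹ = v * (v⁻¹ * g * v * g⁻¹) := by group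
  rw [e]
  exact mul_mem hv (b.R_le o h2)

/-- `N(V) ∩ N(R o)` centralises `c` -/
theorem Sig.comm {r : G} (hr : ∀ x, x ∈ R o ↔ x = 1 ∨ x = r) {c : G}
    (hc : c ∈ zc S ⊓ centralizer (P : Set G)) (h : Sig V R o c) {g : G} (hg : g ∈ normalizer (R o : Set G))
    (hgV : g ∈ normalizer (V : Set G)) : g * c = c * g := by
  obtain ⟨j, k, hj, hk, hjk⟩ := b.one_lt
  obtain ⟨r₂, h21, h22, h2⟩ := b.exists_gen j
  have h2j : r₂ ∈ R j := (h2 _).2 (Or.inr rfl)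
  have h2V := b.R_le j h2j
  have hcZ := zc_le_ZQ b hr hc.1
  have h2o : r₂ ∉ R o := fun hh => h21 (b.eq_one hj h2j hh)
  have h3 := fix_c b hr hj h2j h21 hcZ hgV hg
    (h g hg (fun v hv => mem_sup_left (conj_mem_of_normalizer hgV hv)) r₂ h2V h2o)
  have hcX : c ∈ CenX V R := b.cz_le hc
  have h4 : g * c * g⁻¹ * c⁻¹ ∈ CenX V R :=
    mul_mem (conj_mem_of_normalizer (b.NV_le_NCenX hgV) hcX) (inv_mem hcX)
  have h5 := b.toBTS.cen_VX (b.R_le o h3) h4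
  exact mul_inv_eq_iff_eq_mul.1 (mul_inv_eq_one.1 h5)

end Cfsg.Agent.Omega.HT
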