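import Cfsg.Agent.Mrg.Omega.HOneTwo.Basic
import Cfsg.Agent.Mrg.Omega.HTwo.Entry
import Cfsg.Agent.Mrg.Omega.Half.Basic


/-!
# II.0h1, `q = 2`, over a 2-group `T`: `|Z₀| ≤ 2` implies that `T` is a Sylow 2-subgroup of `G`; the position `Pos`

`b : HTT T P V R o`, `Z₀ = Ω₁Z(T) ⊓ C(P)`, `S` a Sylow 2-subgroup of `G` with `|Ω₁Z(S)| ≥ 4`.

* `exists_sylow` : `|Z₀| ≤ 2` ⟹ `T` is a Sylow 2-subgroup;
* `ht_of` : `HTT` over a Sylow group gives `HT`; `reindex` : the points indexed by `ULift ι`;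
* `exists_pos` : the position `HTwo.Entry.Pos`, indexed by `ULift ι`.
-/

set_option autoImplicit false
set_option linter.unusedSectionVars false

namespace Cfsg.Agent.Omega.HT.SylExit

open Subgroup Cfsg Cfsg.Agent.ZN Cfsg.Agent.Omega.BTwo
open Cfsg.Agent.Omega.MinPar Cfsg.Agent.Omega.HT
open Cfsg.Agent.Omega.HTwo.Entry (Pos)

universe u v w

variable {G : Type u} [Group G] {ι : Type v} {T P V : Subgroup G} {R : ι → Subgroup G} {o : ι}

/-- `|A ⊔ B| ≤ |A| |B|` for commuting subgroups -/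
theorem card_sup_le [Finite G] {A B : Subgroup G} (h : ∀ a ∈ A, ∀ b ∈ B, a * b = b * a) :
    Nat.card (A ⊔ B : Subgroup G) ≤ Nat.card A * Nat.card B := by
  have hn : B ≤ normalizer (A : Set G) := by
    intro b hb
    refine centralizer_le_normalizer _ (mem_centralizer_iff.2 fun a ha => h a ha b hb)
  have hs : Function.Surjective fun p : A × B => (⟨(p.1 : G) * p.2, mul_mem_sup p.1.2 p.2.2⟩ : (A ⊔ B : Subgroup G)) := by
    rintro ⟨x, hx⟩
    rw [← SetLike.mem_coe, coe_mul_of_right_le_normalizer_left _ _ hn] at hx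
    obtain ⟨a, ha, b, hb, rfl⟩ := hx
    exact ⟨(⟨a, ha⟩, ⟨b, hb⟩), rfl⟩
  have h1 := Nat.card_le_card_of_surjective _ hs
  rwa [Nat.card_prod] at h1

/-- **`|Z₀| ≤ 2` : `T` is a Sylow 2-subgroup** -/
theorem exists_sylow [Finite G] (b : HTT T P V R o)
    (h1 : ∀ x ∈ zc T ⊓ centralizer (P : Set G), ∀ y ∈ zc T ⊓ centralizer (P : Set G), x ≠ 1 → y ≠ 1 → x = y)
    (S : Sylow 2 G) (h4 : 4 ≤ Nat.card (zc (S : Subgroup G))) : ∃ S' : Sylow 2 G, (S' : Subgroup G) = T := by
  classical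
  obtain ⟨S', hS'⟩ := b.S_p.exists_le_sylow
  refine ⟨S', ?_⟩
  -- a 2-group containing `T` and normalising `R o` is `T`
  have key : ∀ Y : Subgroup G, IsPGroup 2 Y → T ≤ Y → Y ≤ normalizer (R o : Set G) → T = Y := fun Y hY h2 h3 =>
    eq_of_le_of_card_ge h2 (Nat.le_of_dvd Nat.card_pos (HT.card_dvd_card b.S_R b.S_odd hY h3))
  -- `Ω₁Z(S') ≤ Ω₁Z(T)`
  have hZ : zc (S' : Subgroup G) ≤ zc T := by
    intro z hz
    have hz' := mem_zc.1 hz
    have e : T = T ⊔ zpowers z := by
      refine key _ (S'.isPGroup'.to_le (sup_le hS' (by rw [zpowers_le]; exact hz'.1))) le_sup_left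
        (sup_le b.S_R ?_)
      rw [zpowers_le]
      refine centralizer_le_normalizer _ (mem_centralizer_iff.2 fun r hr => ?_)
      exact hz'.2.1 r (hS' (b.V_le_S (b.R_le o hr)))
    have hzT : z ∈ T := e.symm.le (mem_sup_right (mem_zpowers z))
    exact mem_zc.2 ⟨hzT, fun s hs => hz'.2.1 s (hS' hs), hz'.2.2⟩
  -- `|Ω₁Z(T)| ≤ 4`
  have hZ0 : Nat.card (zc T ⊓ centralizer (P : Set G) : Subgroup G) ≤ 2 := by
    by_contra hcon
    push Not at hcon
    obtain ⟨x, hx, y, hy, hx1, hy1, hxy⟩ : ∃ x ∈ zc T ⊓ centralizer (P : Set G),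
        ∃ y ∈ zc T ⊓ centralizer (P : Set G), x ≠ 1 ∧ y ≠ 1 ∧ x ≠ y := by
      by_contra hc
      push Not at hc
      have hinj : Function.Injective fun g : (zc T ⊓ centralizer (P : Set G) : Subgroup G) =>
          (if (g : G) = 1 then true else false) := by
        intro g g' hgg
        change (if (g : G) = 1 then true else false) = (if (g' : G) = 1 then true else false) at hgg
        by_cases hg : (g : G) = 1
        · by_cases hg' : (g' : G) = 1
          · exact Subtype.ext (hg.trans hg'.symm)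
          · rw [if_pos hg, if_neg hg'] at hgg
            exact absurd hgg (by decide)
        · by_cases hg' : (g' : G) = 1
          · rw [if_neg hg, if_pos hg'] at hgg
            exact absurd hgg (by decide)
          · exact Subtype.ext (hc _ g.2 _ g'.2 hg hg')
      have h5 := Nat.card_le_card_of_injective _ hinj
      rw [Nat.card_eq_fintype_card (α := Bool), Fintype.card_bool] at h5
      omega
    exact hxy (h1 x hx y hy hx1 hy1)
  have hc4 : Nat.card (zc T) ≤ 4 := by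
    rw [b.zc_eq]
    refine (card_sup_le fun a ha c hc => ?_).trans ?_
    · exact (mem_zc.1 hc.1).2.1 a (b.V_le_S (b.R_le o ha))
    · rw [b.card_R o]
      omega
  have hS4 : 4 ≤ Nat.card (zc (S' : Subgroup G)) := by
    rwa [Half.card_zc_of_card_eq S S'.isPGroup'
      (le_antisymm (Half.card_le_sylow S S'.isPGroup') (Half.card_le_sylow S' S.isPGroup'))]
  have e : zc (S' : Subgroup G) = zc T := eq_of_le_of_card_ge hZ (hc4.trans hS4)
  -- `S' ≤ C(r) ≤ N(R o)`
  have hR : (S' : Subgroup G) ≤ normalizer (R o : Set G) := by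
    intro s hs
    refine centralizer_le_normalizer _ (mem_centralizer_iff.2 fun r hr => ?_)
    have h6 : r ∈ zc (S' : Subgroup G) := by rw [e]; exact b.R_le_zc hr
    exact ((mem_zc.1 h6).2.1 s hs).symm
  exact (key _ S'.isPGroup' hS' hR).symm

/-- `HTT` over a Sylow 2-subgroup gives `HT` -/
theorem ht_of {S : Sylow 2 G} (b : HTT (S : Subgroup G) P V R o) : HOneTwo.HT S P V R o where
  toBT := b.toBT
  card_R := b.card_R
  char2 := b.char2
  S_V := b.S_V
  S_R := b.S_R
  S_P := b.S_P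
  P_V := b.P_V
  P_trans := b.P_trans
  P_Z := b.P_Z

/-- the points indexed by an equivalent type -/
theorem reindex {κ : Type w} (e : κ ≃ ι) (b : BT V R) : BT V (R ∘ e) where
  V_comm := b.V_comm
  V_sq := b.V_sq
  R_le i := b.R_le (e i)
  R_inf i j hij := b.R_inf _ _ (e.injective.ne hij)
  R_sup i j hij := b.R_sup _ _ (e.injective.ne hij)
  R_cov v hv := by
    obtain ⟨i, hi⟩ := b.R_cov v hv
    exact ⟨e.symm i, by rw [Function.comp_apply, Equiv.apply_symm_apply]; exact hi⟩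
  R_ne i := b.R_ne (e i)
  third i j := by
    obtain ⟨k, h1, h2⟩ := b.third (e i) (e j)
    exact ⟨e.symm k, fun h => h1 (by rw [← h, Equiv.apply_symm_apply]),
      fun h => h2 (by rw [← h, Equiv.apply_symm_apply])⟩
  perm g hg i := by
    obtain ⟨j, hj⟩ := b.perm g hg (e i)
    exact ⟨e.symm j, by rw [Function.comp_apply, Function.comp_apply, Equiv.apply_symm_apply]; exact hj⟩
  V_Q i := b.V_Q (e i)
  QV i := b.QV (e i)
  QR i := b.QR (e i)
  mt i := by
    obtain ⟨h, hh, H⟩ := b.mt (e i)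
    exact ⟨h, hh, fun j k hj hk => H (e j) (e k) (e.injective.ne hj) (e.injective.ne hk)⟩

theorem reindexHT {S : Sylow 2 G} {κ : Type w} (e : κ ≃ ι) {o' : κ} (ho : e o' = o) (b : HOneTwo.HT S P V R o) :
    HOneTwo.HT S P V (R ∘ e) o' where
  toBT := reindex e b.toBT
  card_R i := b.card_R (e i)
  char2 := b.char2
  S_V := b.S_V
  S_R := by rw [Function.comp_apply, ho]; exact b.S_R
  S_P := b.S_P
  P_V := b.P_V
  P_trans i := by
    rw [Function.comp_apply, Function.comp_apply, ho]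
    exact b.P_trans (e i)
  P_Z := b.P_Z

/-- **the position**, indexed by `ULift ι` -/
theorem exists_pos [Finite G] {S' : Sylow 2 G} (b : HTT (S' : Subgroup G) P V R o) (S : Sylow 2 G)
    (h4 : 4 ≤ Nat.card (zc (S : Subgroup G))) :
    ∃ (κ : Type (max w v)) (R' : κ → Subgroup G) (o' : κ) (r z : G), Pos S' P V R' o' r z := by
  have hS4 : 4 ≤ Nat.card (zc (S' : Subgroup G)) := by
    rwa [Half.card_zc_of_card_eq S S'.isPGroup'
      (le_antisymm (Half.card_le_sylow S S'.isPGroup') (Half.card_le_sylow S' S.isPGroup'))]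
  obtain ⟨r, hr1, hrr, hr⟩ := b.exists_gen o
  have hne : zc (S' : Subgroup G) ⊓ centralizer (P : Set G) ≠ ⊥ := by
    intro h0
    rw [b.zc_eq, h0, sup_bot_eq, b.card_R o] at hS4
    omega
  obtain ⟨⟨z, hz⟩, hz1⟩ := Subgroup.ne_bot_iff_exists_ne_one.1 hne
  exact ⟨ULift.{w} ι, R ∘ Equiv.ulift, ⟨o⟩, r, z, { reindexHT Equiv.ulift rfl (ht_of b) with
    r_ne := hr1, r_sq := hrr, r_iff := hr, z_mem := hz, z_ne := fun e => hz1 (Subtype.ext e) }⟩

end Cfsg.Agent.Omega.HT.SylExit
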